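import Mathlib
import Groth.Agent.Lib.Helper5.SymPow.C

set_option autoImplicit false

namespace Groth.Agent.H5.DSBC

open TensorProduct

universe u v

section proj

variable {R ι : Type u} [CommRing R] [Fintype ι] [Nonempty ι]
  {M : Type v} [AddCommGroup M] [Module R M]

/-- Symmetric powers of projective modules are projective. -/
theorem projective_symPow [Module.Projective R M] : Module.Projective R (Sym[R] ι M) := by
  obtain ⟨s, hs⟩ := Module.projective_def'.mp (inferInstance : Module.Projective R M)
  let p : (M →₀ R) →ₗ[R] M := Finsupp.linearCombination R (id : M → M)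
  let b : Module.Basis M R (M →₀ R) := Finsupp.basisSingleOne (R := R) (ι := M)
  have hsurj : Function.Surjective (algebraMap R R) := fun x => ⟨x, rfl⟩
  let i_tot : Sym[R] ι M →ₗ[R] MvPolynomial M R :=
    SymPow.theta (B₀ := R) (ι := ι) b ∘ₗ SymPow.map s
  let s_tot : MvPolynomial M R →ₗ[R] Sym[R] ι M :=
    SymPow.map p ∘ₗ SymPow.rho (ι := ι) b hsurj
  have H : s_tot ∘ₗ i_tot = LinearMap.id := by
    ext w
    change SymPow.map p (SymPow.rho (ι := ι) b hsurj
      (SymPow.theta (B₀ := R) (ι := ι) b (SymPow.map s w))) = w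
    have h1 := LinearMap.congr_fun (SymPow.rho_comp_theta (B₀ := R) (ι := ι) b hsurj)
      (SymPow.map s w)
    rw [LinearMap.comp_apply, LinearMap.id_apply] at h1
    rw [h1, ← LinearMap.comp_apply, ← SymPow.map_comp]
    have : p ∘ₗ s = LinearMap.id := hs
    rw [this, SymPow.map_id, LinearMap.id_apply]
  exact Module.Projective.of_split i_tot s_tot H

end proj

end Groth.Agent.H5.DSBC
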