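import Mathlib
import Groth.Prelude.Def_PP16
import Groth.Agent.Lib.Helper5.GrSym.L
import Groth.Agent.Lib.Helper5.DSBC.A

set_option autoImplicit false

namespace Groth.Agent.H5.DSBC

open TensorProduct

universe u

section

variable (A B : Type u) [CommRing A] [CommRing B] [Algebra A B]

local notation "II" => KaehlerDifferential.ideal A B

theorem projective_gr (h : PP16.IsDiffSmooth A B) (k : ℕ) (hk : 0 < k) :
    Module.Projective B (PP16.grI A B k) := by
  haveI := h.1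
  haveI : Nonempty (ULift.{u} (Fin k)) := ⟨⟨⟨0, hk⟩⟩⟩
  obtain ⟨φ, -, hbij⟩ := h.2 (ULift.{u} (Fin k))
  haveI : Module.Projective B (Sym[B] (ULift.{u} (Fin k)) (Ω[B⁄A])) := projective_symPow
  have := Module.Projective.of_equiv (LinearEquiv.ofBijective φ hbij)
  have hc : Fintype.card (ULift.{u} (Fin k)) = k := by simp
  rwa [hc] at this

/-- The first retraction `S → I`. -/
noncomputable def R1 : (B ⊗[A] B) →ₗ[B] ↥(GrSym.Nn A B 1) :=
  LinearMap.codRestrict (GrSym.Nn A B 1)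
    (LinearMap.id - (Algebra.linearMap B (B ⊗[A] B)) ∘ₗ (Algebra.TensorProduct.lmul'' A).toLinearMap)
    (fun s => by
      change s - algebraMap B (B ⊗[A] B) (Algebra.TensorProduct.lmul' A s) ∈ II ^ 1
      rw [pow_one]
      exact GrSym.sub_algebraMap_lmul_mem A B s)

lemma R1_apply (x : B ⊗[A] B) (hx : x ∈ GrSym.Nn A B 1) : R1 A B x = ⟨x, hx⟩ := by
  apply Subtype.ext
  change x - algebraMap B (B ⊗[A] B) (Algebra.TensorProduct.lmul' A x) = x
  have : x ∈ II := by
    have h1 : x ∈ II ^ 1 := hx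
    rwa [pow_one] at h1
  have h0 : Algebra.TensorProduct.lmul' A x = 0 := this
  rw [h0, map_zero, sub_zero]

theorem exists_retraction (h : PP16.IsDiffSmooth A B) (k : ℕ) (hk : 0 < k) :
    ∃ R : (B ⊗[A] B) →ₗ[B] ↥(GrSym.Nn A B k),
      ∀ (x : B ⊗[A] B) (hx : x ∈ GrSym.Nn A B k), R x = ⟨x, hx⟩ := by
  induction k, hk using Nat.le_induction with
  | base => exact ⟨R1 A B, R1_apply A B⟩
  | succ k hk ih =>
    obtain ⟨R, hR⟩ := ih
    haveI : Module.Projective B (PP16.grI A B k) := projective_gr A B h k hk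
    let Q : Submodule B ↥(GrSym.Nn A B k) :=
      (GrSym.Nn A B (k + 1)).comap (GrSym.Nn A B k).subtype
    obtain ⟨s, hs⟩ := Module.projective_lifting_property Q.mkQ
      (LinearMap.id : PP16.grI A B k →ₗ[B] PP16.grI A B k) Q.mkQ_surjective
    let e0 : ↥(GrSym.Nn A B k) →ₗ[B] (B ⊗[A] B) :=
      (GrSym.Nn A B k).subtype ∘ₗ (LinearMap.id - s ∘ₗ Q.mkQ)
    have he0 : ∀ x, e0 x ∈ GrSym.Nn A B (k + 1) := by
      intro x
      have h1 : Q.mkQ (x - s (Q.mkQ x)) = 0 := by
        rw [map_sub]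
        have := LinearMap.congr_fun hs (Q.mkQ x)
        rw [LinearMap.comp_apply, LinearMap.id_apply] at this
        rw [this, sub_self]
      rw [Submodule.mkQ_apply, Submodule.Quotient.mk_eq_zero, Submodule.mem_comap] at h1
      exact h1
    let e : ↥(GrSym.Nn A B k) →ₗ[B] ↥(GrSym.Nn A B (k + 1)) :=
      LinearMap.codRestrict _ e0 he0
    refine ⟨e ∘ₗ R, fun x hx => ?_⟩
    have hxk : x ∈ GrSym.Nn A B k := Ideal.pow_le_pow_right (Nat.le_succ k) hx
    rw [LinearMap.comp_apply, hR x hxk]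
    apply Subtype.ext
    change ((⟨x, hxk⟩ : ↥(GrSym.Nn A B k)) - s (Q.mkQ ⟨x, hxk⟩) : ↥(GrSym.Nn A B k)).1 = x
    have h0 : Q.mkQ ⟨x, hxk⟩ = 0 := by
      rw [Submodule.mkQ_apply, Submodule.Quotient.mk_eq_zero, Submodule.mem_comap]
      exact hx
    rw [h0, map_zero, sub_zero]

end

end Groth.Agent.H5.DSBC
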