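import Mathlib
import Groth.Prelude.Def_PP16
import Groth.Agent.Lib.Helper5.DSBC.B

set_option autoImplicit false

namespace Groth.Agent.H5.DSBC

open TensorProduct

universe u

section

variable (A B : Type u) [CommRing A] [CommRing B] [Algebra A B]

local notation "II" => KaehlerDifferential.ideal A B

theorem exists_Sigma (h : PP16.IsDiffSmooth A B) (ι : Type u) [Fintype ι] [Nonempty ι] :
    ∃ Sg : (B ⊗[A] B) →ₗ[B] Sym[B] ι (II).Cotangent,
      (∀ x ∈ II ^ (Fintype.card ι + 1), Sg x = 0) ∧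
      (∀ x : ι → II, Sg (∏ i, (x i : B ⊗[A] B)) =
        SymmetricPower.tprod B fun i => (II).toCotangent (x i)) := by
  obtain ⟨φ, hφ, hbij⟩ := GrSym.clsBijective_of_isDiffSmooth A B h ι
  obtain ⟨R, hR⟩ := exists_retraction A B h (Fintype.card ι) Fintype.card_pos
  let Q : Submodule B ↥(GrSym.Nn A B (Fintype.card ι)) :=
    (GrSym.Nn A B (Fintype.card ι + 1)).comap (GrSym.Nn A B (Fintype.card ι)).subtype
  let ψ := (LinearEquiv.ofBijective φ hbij).symm
  refine ⟨ψ.toLinearMap ∘ₗ Q.mkQ ∘ₗ R, ?_, ?_⟩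
  · intro x hx
    have hxk : x ∈ GrSym.Nn A B (Fintype.card ι) := Ideal.pow_le_pow_right (Nat.le_succ _) hx
    rw [LinearMap.comp_apply, LinearMap.comp_apply, hR x hxk]
    have h0 : Q.mkQ ⟨x, hxk⟩ = 0 := by
      rw [Submodule.mkQ_apply, Submodule.Quotient.mk_eq_zero, Submodule.mem_comap]
      exact hx
    rw [h0, map_zero]
  · intro x
    have hxk : ∏ i, (x i : B ⊗[A] B) ∈ GrSym.Nn A B (Fintype.card ι) := GrSym.prod_mem (II) x
    rw [LinearMap.comp_apply, LinearMap.comp_apply, hR _ hxk]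
    change ψ (Q.mkQ ⟨_, hxk⟩) = _
    rw [LinearEquiv.symm_apply_eq]
    change _ = φ _
    rw [hφ x]
    rfl

end

end Groth.Agent.H5.DSBC
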