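import Mathlib
import Groth.Prelude.Def_PP16

set_option autoImplicit false

namespace Groth.Agent.H5.DSBC

open TensorProduct

universe u v

section

variable (A B A' B' : Type u) [CommRing A] [CommRing B] [Algebra A B]
    [CommRing A'] [CommRing B'] [Algebra A' B'] [Algebra A A'] [Algebra B B'] [Algebra A B']
    [IsScalarTower A A' B'] [IsScalarTower A B B'] [Algebra.IsPushout A B A' B']

/-- Extension of a semilinear additive map on `B ⊗[A] B` to a `B'`-linear map on `B' ⊗[A'] B'`. -/
theorem exists_extension {Q : Type v} [AddCommGroup Q] [Module B' Q]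
    (g : (B ⊗[A] B) →+ Q)
    (hg : ∀ (b : B) (s : B ⊗[A] B), g (b • s) = algebraMap B B' b • g s) :
    ∃ G : (B' ⊗[A'] B') →ₗ[B'] Q, ∀ s, G (PP16.tensorMap A B A' B' s) = g s := by
  letI : Module A' Q := Module.compHom Q (algebraMap A' B')
  haveI : IsScalarTower A' B' Q := ⟨fun a b q => by
    change (a • b) • q = algebraMap A' B' a • (b • q)
    rw [Algebra.smul_def, mul_smul]⟩
  letI : Module A Q := Module.compHom Q (algebraMap A B')
  haveI : IsScalarTower A A' Q := ⟨fun a a' q => by
    change algebraMap A' B' (a • a') • q = algebraMap A B' a • (algebraMap A' B' a' • q)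
    rw [Algebra.smul_def, map_mul, ← IsScalarTower.algebraMap_apply, mul_smul]⟩
  let g₀ : B →ₗ[A] Q :=
    { toFun := fun c => g ((1 : B) ⊗ₜ[A] c)
      map_add' := fun x y => by rw [tmul_add, map_add]
      map_smul' := fun a c => by
        change g ((1 : B) ⊗ₜ[A] (a • c)) = algebraMap A B' a • g ((1 : B) ⊗ₜ[A] c)
        have h1 : (1 : B) ⊗ₜ[A] (a • c) = (algebraMap A B a) • ((1 : B) ⊗ₜ[A] c) := by
          rw [TensorProduct.smul_tmul', smul_eq_mul, mul_one, Algebra.algebraMap_eq_smul_one,
            TensorProduct.smul_tmul]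
        rw [h1, hg, ← IsScalarTower.algebraMap_apply] }
  have hbc : IsBaseChange A' (IsScalarTower.toAlgHom A B B').toLinearMap :=
    (Algebra.IsPushout.symm (inferInstance : Algebra.IsPushout A B A' B')).out
  let G₁ : B' →ₗ[A'] Q := hbc.lift g₀
  have hG₁ : ∀ c : B, G₁ (algebraMap B B' c) = g ((1 : B) ⊗ₜ[A] c) := fun c => hbc.lift_eq g₀ c
  let G : (B' ⊗[A'] B') →ₗ[B'] Q := LinearMap.liftBaseChange B' G₁
  refine ⟨G, fun s => ?_⟩
  induction s using TensorProduct.induction_on with
  | zero => rw [map_zero, map_zero, map_zero]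
  | tmul b c =>
    rw [PP16.tensorMap_tmul]
    change algebraMap B B' b • G₁ (algebraMap B B' c) = _
    rw [hG₁, ← hg, TensorProduct.smul_tmul', smul_eq_mul, mul_one]
  | add x y hx hy => rw [map_add, map_add, map_add, hx, hy]

end

end Groth.Agent.H5.DSBC
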