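import Mathlib
import Groth.Prelude.Def_PP16
import Groth.Agent.Lib.Helper5.SymPow.F
import Groth.Agent.Lib.Helper5.DSBC.C
import Groth.Agent.Lib.Helper5.DSBC.D

set_option autoImplicit false

namespace Groth.Agent.H5.DSBC

open TensorProduct

universe u

section

variable (A B A' B' : Type u) [CommRing A] [CommRing B] [Algebra A B]
    [CommRing A'] [CommRing B'] [Algebra A' B'] [Algebra A A'] [Algebra B B'] [Algebra A B']
    [IsScalarTower A A' B'] [IsScalarTower A B B']

/-- The `B'`-span (first factor) of the image of `I^k`. -/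
noncomputable def LL (k : ℕ) : Submodule B' (B' ⊗[A'] B') :=
  Submodule.span B' ((PP16.tensorMap A B A' B') ''
    ((KaehlerDifferential.ideal A B ^ k : Ideal (B ⊗[A] B)) : Set (B ⊗[A] B)))

variable {A B A' B'} in
lemma LL_mul {j k : ℕ} {x y : B' ⊗[A'] B'} (hx : x ∈ LL A B A' B' j) (hy : y ∈ LL A B A' B' k) :
    x * y ∈ LL A B A' B' (j + k) := by
  induction hx using Submodule.span_induction with
  | mem x hx =>
    obtain ⟨x0, hx0, rfl⟩ := hx
    induction hy using Submodule.span_induction with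
    | mem y hy =>
      obtain ⟨y0, hy0, rfl⟩ := hy
      rw [← map_mul]
      exact Submodule.subset_span ⟨x0 * y0, by rw [pow_add]; exact Ideal.mul_mem_mul hx0 hy0, rfl⟩
    | zero => rw [mul_zero]; exact zero_mem _
    | add y1 y2 _ _ h1 h2 => rw [mul_add]; exact add_mem h1 h2
    | smul b y _ h => rw [mul_smul_comm]; exact Submodule.smul_mem _ _ h
  | zero => rw [zero_mul]; exact zero_mem _
  | add x1 x2 _ _ h1 h2 => rw [add_mul]; exact add_mem h1 h2
  | smul b x _ h => rw [smul_mul_assoc]; exact Submodule.smul_mem _ _ h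

variable [Algebra.IsPushout A B A' B']

lemma delta_mem_LL (c' : B') :
    ((1 : B') ⊗ₜ[A'] c' - c' ⊗ₜ[A'] (1 : B')) ∈ LL A B A' B' 1 := by
  have hbc : IsBaseChange A' (IsScalarTower.toAlgHom A B B').toLinearMap :=
    (Algebra.IsPushout.symm (inferInstance : Algebra.IsPushout A B A' B')).out
  induction c' using hbc.inductionOn with
  | zero => simp
  | tmul c =>
    change ((1 : B') ⊗ₜ[A'] algebraMap B B' c - algebraMap B B' c ⊗ₜ[A'] (1 : B')) ∈ _
    apply Submodule.subset_span
    refine ⟨(1 : B) ⊗ₜ[A] c - c ⊗ₜ[A] (1 : B), ?_, ?_⟩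
    · rw [pow_one]; exact KaehlerDifferential.one_smul_sub_smul_one_mem_ideal A c
    · rw [map_sub, PP16.tensorMap_tmul, PP16.tensorMap_tmul, map_one]
  | smul a' c' h =>
    have h1 : (1 : B') ⊗ₜ[A'] (a' • c') - (a' • c') ⊗ₜ[A'] (1 : B') =
        algebraMap A' B' a' • ((1 : B') ⊗ₜ[A'] c' - c' ⊗ₜ[A'] (1 : B')) := by
      have e1 : (1 : B') ⊗ₜ[A'] (a' • c') = a' • ((1 : B') ⊗ₜ[A'] c') :=
        TensorProduct.tmul_smul a' 1 c'
      have e2 : (a' • c') ⊗ₜ[A'] (1 : B') = a' • (c' ⊗ₜ[A'] (1 : B')) :=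
        (TensorProduct.smul_tmul' a' c' 1).symm
      rw [e1, e2, ← smul_sub, algebraMap_smul]
    rw [h1]
    exact Submodule.smul_mem _ _ h
  | add c1 c2 h1 h2 =>
    rw [tmul_add, add_tmul, add_sub_add_comm]; exact add_mem h1 h2

lemma ideal_le_LL (x : B' ⊗[A'] B') (hx : x ∈ KaehlerDifferential.ideal A' B') :
    x ∈ LL A B A' B' 1 := by
  have h1 : x ∈ (KaehlerDifferential.ideal A' B').restrictScalars B' := hx
  rw [← KaehlerDifferential.submodule_span_range_eq_ideal] at h1
  refine (Submodule.span_le.mpr ?_) h1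
  rintro _ ⟨c', rfl⟩
  exact delta_mem_LL A B A' B' c'

lemma pow_le_LL (k : ℕ) (hk : 0 < k) (x : B' ⊗[A'] B')
    (hx : x ∈ KaehlerDifferential.ideal A' B' ^ k) : x ∈ LL A B A' B' k := by
  induction k, hk using Nat.le_induction generalizing x with
  | base => rw [pow_one] at hx; exact ideal_le_LL A B A' B' x hx
  | succ k hk ih =>
    rw [pow_succ] at hx
    refine Submodule.mul_induction_on hx ?_ ?_
    · intro m hm n hn
      exact LL_mul (ih m hm) (ideal_le_LL A B A' B' n hn)
    · intro x y h1 h2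
      exact add_mem h1 h2

include A in
lemma span_D_algebraMap :
    Submodule.span B' (Set.range fun c : B => KaehlerDifferential.D A' B' (algebraMap B B' c)) =
      ⊤ := by
  have hbc : IsBaseChange A' (IsScalarTower.toAlgHom A B B').toLinearMap :=
    (Algebra.IsPushout.symm (inferInstance : Algebra.IsPushout A B A' B')).out
  rw [eq_top_iff, ← KaehlerDifferential.span_range_derivation A' B', Submodule.span_le]
  rintro _ ⟨c', rfl⟩
  induction c' using hbc.inductionOn with
  | zero => simp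
  | tmul c => exact Submodule.subset_span ⟨c, rfl⟩
  | smul a' c' h =>
    rw [Derivation.map_smul, ← algebraMap_smul B' a']
    exact Submodule.smul_mem _ _ h
  | add c1 c2 h1 h2 => rw [map_add]; exact add_mem h1 h2

end

end Groth.Agent.H5.DSBC
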