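import Mathlib
import Groth.Prelude.Def_PP16
import Groth.Agent.Lib.Helper5.DSBC.E

set_option autoImplicit false

namespace Groth.Agent.H5.DSBC

open TensorProduct

universe u

section

variable (A B A' B' : Type u) [CommRing A] [CommRing B] [Algebra A B]
    [CommRing A'] [CommRing B'] [Algebra A' B'] [Algebra A A'] [Algebra B B'] [Algebra A B']
    [IsScalarTower A A' B'] [IsScalarTower A B B']

/-- The base change map on symmetric powers of differentials (additive, semilinear). -/
noncomputable def bc (ι : Type u) [Fintype ι] :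
    Sym[B] ι (Ω[B⁄A]) →+ Sym[B'] ι (Ω[B'⁄A']) :=
  (SymPow.canAdd (R := B) (S := B') (ι := ι) (M := Ω[B'⁄A'])).comp
    (SymPow.map (ι := ι) (KaehlerDifferential.map A A' B B')).toAddMonoidHom

lemma bc_tprod (ι : Type u) [Fintype ι] (c : ι → B) :
    bc A B A' B' ι (SymmetricPower.tprod B fun i => KaehlerDifferential.D A B (c i)) =
      SymmetricPower.tprod B' fun i => KaehlerDifferential.D A' B' (algebraMap B B' (c i)) := by
  change SymPow.canAdd (R := B) (S := B') (SymPow.map (KaehlerDifferential.map A A' B B')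
    (SymmetricPower.tprod B fun i => KaehlerDifferential.D A B (c i))) = _
  rw [SymPow.map_tprod, SymPow.canAdd_tprod]
  simp only [KaehlerDifferential.map_D]

lemma bc_smul (ι : Type u) [Fintype ι] (b : B) (z : Sym[B] ι (Ω[B⁄A])) :
    bc A B A' B' ι (b • z) = algebraMap B B' b • bc A B A' B' ι z := by
  change SymPow.canAdd (R := B) (S := B') (SymPow.map (KaehlerDifferential.map A A' B B')
    (b • z)) = algebraMap B B' b • SymPow.canAdd (R := B) (S := B')
      (SymPow.map (KaehlerDifferential.map A A' B B') z)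
  rw [map_smul, SymPow.canAdd_smul]

variable [Algebra.IsPushout A B A' B']

theorem exists_Sigma' (h : PP16.IsDiffSmooth A B) (ι : Type u) [Fintype ι] [Nonempty ι] :
    ∃ Sg' : (B' ⊗[A'] B') →ₗ[B'] Sym[B'] ι (Ω[B'⁄A']),
      (∀ x ∈ KaehlerDifferential.ideal A' B' ^ (Fintype.card ι + 1), Sg' x = 0) ∧
      (∀ c : ι → B, Sg' (∏ i, ((1 : B') ⊗ₜ[A'] algebraMap B B' (c i) -
          algebraMap B B' (c i) ⊗ₜ[A'] (1 : B'))) =
        SymmetricPower.tprod B' fun i => KaehlerDifferential.D A' B' (algebraMap B B' (c i))) := by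
  obtain ⟨Sg, hS1, hS2⟩ := exists_Sigma A B h ι
  let Sg0 : (B ⊗[A] B) →ₗ[B] Sym[B] ι (Ω[B⁄A]) := Sg
  let g : (B ⊗[A] B) →+ Sym[B'] ι (Ω[B'⁄A']) := (bc A B A' B' ι).comp Sg0.toAddMonoidHom
  have hg : ∀ (b : B) (s : B ⊗[A] B), g (b • s) = algebraMap B B' b • g s := by
    intro b s
    change bc A B A' B' ι (Sg0 (b • s)) = algebraMap B B' b • bc A B A' B' ι (Sg0 s)
    rw [map_smul, bc_smul]
  obtain ⟨G, hG⟩ := exists_extension A B A' B' g hg
  refine ⟨G, ?_, ?_⟩
  · intro x hx
    have hx' := pow_le_LL A B A' B' (Fintype.card ι + 1) (Nat.succ_pos _) x hx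
    clear hx
    induction hx' using Submodule.span_induction with
    | mem x hx =>
      obtain ⟨x0, hx0, rfl⟩ := hx
      rw [hG]
      change bc A B A' B' ι (Sg0 x0) = 0
      have : Sg0 x0 = 0 := hS1 x0 hx0
      rw [this, map_zero]
    | zero => exact map_zero _
    | add x y _ _ h1 h2 => rw [map_add, h1, h2, add_zero]
    | smul b x _ h1 => rw [map_smul, h1, smul_zero]
  · intro c
    have h1 : (∏ i, ((1 : B') ⊗ₜ[A'] algebraMap B B' (c i) -
          algebraMap B B' (c i) ⊗ₜ[A'] (1 : B'))) =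
        PP16.tensorMap A B A' B' (∏ i, ((GrSym.δ A B (c i) : KaehlerDifferential.ideal A B) :
          B ⊗[A] B)) := by
      rw [map_prod]
      refine Finset.prod_congr rfl fun i _ => ?_
      change _ = PP16.tensorMap A B A' B' ((1 : B) ⊗ₜ[A] c i - c i ⊗ₜ[A] (1 : B))
      rw [map_sub, PP16.tensorMap_tmul, PP16.tensorMap_tmul, map_one]
    rw [h1, hG]
    change bc A B A' B' ι (Sg0 _) = _
    have h2 : Sg0 (∏ i, ((GrSym.δ A B (c i) : KaehlerDifferential.ideal A B) : B ⊗[A] B)) =
        SymmetricPower.tprod B fun i => KaehlerDifferential.D A B (c i) :=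
      hS2 (fun i => GrSym.δ A B (c i))
    rw [h2, bc_tprod]

end

end Groth.Agent.H5.DSBC
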