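import Mathlib
import Groth.Prelude.Def_PP16
import Groth.Agent.Lib.Helper5.DSBC.F

set_option autoImplicit false

namespace Groth.Agent.H5.DSBC

open TensorProduct

universe u

section

variable (A B A' B' : Type u) [CommRing A] [CommRing B] [Algebra A B]
    [CommRing A'] [CommRing B'] [Algebra A' B'] [Algebra A A'] [Algebra B B'] [Algebra A B']
    [IsScalarTower A A' B'] [IsScalarTower A B B'] [Algebra.IsPushout A B A' B']

theorem projective_kaehler_baseChange [Module.Projective B (Ω[B⁄A])] :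
    Module.Projective B' (Ω[B'⁄A']) := by
  haveI : Algebra.IsPushout A A' B B' := Algebra.IsPushout.symm inferInstance
  exact Module.Projective.of_equiv (KaehlerDifferential.tensorKaehlerEquiv A A' B B')

theorem isDiffSmooth_baseChange (h : PP16.IsDiffSmooth A B) : PP16.IsDiffSmooth A' B' := by
  haveI := h.1
  haveI : Module.Projective B' (Ω[B'⁄A']) := projective_kaehler_baseChange A B A' B'
  apply GrSym.isDiffSmooth_of_cls
  intro ι _ _
  obtain ⟨φ', hφ'0⟩ := GrSym.exists_canonical (B₀ := B') (ι := ι) (KaehlerDifferential.ideal A' B')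
    (GrSym.Nn A' B' (Fintype.card ι)) (GrSym.Nn A' B' (Fintype.card ι + 1))
    (GrSym.hNn A' B' _) (GrSym.hNn A' B' _)
  have hφ' : ∀ x : ι → KaehlerDifferential.ideal A' B',
      φ' (SymmetricPower.tprod B' fun i => (KaehlerDifferential.ideal A' B').toCotangent (x i)) =
        GrSym.cls (KaehlerDifferential.ideal A' B') (GrSym.Nn A' B' (Fintype.card ι))
          (GrSym.Nn A' B' (Fintype.card ι + 1)) (GrSym.hNn A' B' _)
          (∏ i, (x i : B' ⊗[A'] B')) (GrSym.prod_mem (KaehlerDifferential.ideal A' B') x) := hφ'0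
  refine ⟨φ', hφ', ?_, GrSym.surjective_of_pinned (KaehlerDifferential.ideal A' B') _ _
    (GrSym.hNn A' B' _) (GrSym.hNn A' B' _) (fun s => ⟨_, GrSym.sub_rho_mem A' B' s⟩) φ' hφ'⟩
  obtain ⟨Sg', hS1, hS2⟩ := exists_Sigma' A B A' B' h ι
  have key : ∀ z' : Sym[B'] ι (KaehlerDifferential.ideal A' B').Cotangent,
      ∃ (y' : B' ⊗[A'] B') (hy : y' ∈ KaehlerDifferential.ideal A' B' ^ Fintype.card ι),
        φ' z' = GrSym.cls (KaehlerDifferential.ideal A' B') (GrSym.Nn A' B' (Fintype.card ι))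
          (GrSym.Nn A' B' (Fintype.card ι + 1)) (GrSym.hNn A' B' _) y' hy ∧ Sg' y' = z' := by
    intro z'
    have hz' : z' ∈ Submodule.span B' (Set.range fun c : ι → B =>
        SymmetricPower.tprod B' fun i => KaehlerDifferential.D A' B' (algebraMap B B' (c i))) := by
      have := SymPow.span_tprod_comp (R := B') (ι := ι)
        (fun c : B => KaehlerDifferential.D A' B' (algebraMap B B' c))
        (span_D_algebraMap A B A' B')
      rw [this]; trivial
    induction hz' using Submodule.span_induction with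
    | mem z hz =>
      obtain ⟨c, rfl⟩ := hz
      exact ⟨_, _, hφ' (fun i => GrSym.δ A' B' (algebraMap B B' (c i))), hS2 c⟩
    | zero => exact ⟨0, zero_mem _, by rw [map_zero]; rfl, map_zero _⟩
    | add z1 z2 _ _ h1 h2 =>
      obtain ⟨y1, hy1, e1, f1⟩ := h1
      obtain ⟨y2, hy2, e2, f2⟩ := h2
      refine ⟨y1 + y2, add_mem hy1 hy2, by rw [map_add, e1, e2]; rfl, ?_⟩
      rw [map_add, f1, f2]
      rfl
    | smul b z _ h1 =>
      obtain ⟨y, hy, e, f⟩ := h1
      refine ⟨b • y, ?_, ?_, ?_⟩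
      · rw [Algebra.smul_def]; exact Ideal.mul_mem_left _ _ hy
      · rw [map_smul, e]; rfl
      · rw [map_smul, f]
        rfl
  rw [injective_iff_map_eq_zero]
  intro z' hz'
  obtain ⟨y', hy, e, f⟩ := key z'
  rw [hz'] at e
  have hy1 : y' ∈ KaehlerDifferential.ideal A' B' ^ (Fintype.card ι + 1) :=
    (GrSym.cls_eq_zero_iff (KaehlerDifferential.ideal A' B') (GrSym.Nn A' B' (Fintype.card ι))
      (GrSym.Nn A' B' (Fintype.card ι + 1)) (GrSym.hNn A' B' _) (GrSym.hNn A' B' _) y' hy).mp e.symm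
  rw [← f]
  exact hS1 y' hy1

end

end Groth.Agent.H5.DSBC
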